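import Groth.Agent.EtShLib.DescCons
import Groth.Agent.EtShLib.Noeth
import Groth.Agent.SubtrBlowLib.GenericFlat

/-! Uniform stratifications descend along surjective morphisms of finite type.

Local constancy descends along open surjections, and generic flatness makes a surjection of finite
type open over a dense open of each reduced closed stratum. -/

set_option autoImplicit false
set_option linter.unusedSectionVars false
set_option linter.style.haveILetI false
set_option backward.isDefEq.respectTransparency false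
set_option backward.isDefEq.respectTransparency.types false
set_option synthInstance.maxHeartbeats 400000
set_option maxHeartbeats 1000000

universe v u

open CategoryTheory CategoryTheory.Limits AlgebraicGeometry Opposite Topology TopologicalSpace

namespace Groth.Agent.EtFamStrataLib

open Groth.Agent.EtShLib

variable {X Y : Scheme.{u}}

theorem isOpen_isoLocus_lc {G : EtCoh.Ab X} (hG : LC (fun M : AddCommGrpCat.{u + 1} => Finite M) G)
    (M : AddCommGrpCat.{u + 1}) [Finite M] (τ : M ⟶ G.obj.obj (op (EtCoh.top X))) :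
    IsOpen {z : X | ∀ (Ω : Type u) [Field Ω] [IsSepClosed Ω] (ζ : Spec (CommRingCat.of Ω) ⟶ X)
      (t : Fib ζ (EtCoh.top X)), ζ.base default = z → IsIso (τ ≫ germ ζ G (EtCoh.top X) t)} := by
  have hterm : IsTerminal (EtCoh.top X) :=
    IsTerminal.ofUniqueHom (fun V => MorphismProperty.Over.homMk V.hom (Category.comp_id _)) fun V m =>
      MorphismProperty.Over.Hom.ext ((Category.comp_id _).symm.trans (MorphismProperty.Over.w m))
  let C := (constantSheaf X.smallEtaleTopology AddCommGrpCat.{u + 1}).obj M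
  let φ : C ⟶ G := ((constantSheafAdj X.smallEtaleTopology AddCommGrpCat.{u + 1} hterm).homEquiv M G).symm τ
  have hφ : cstUnit X M ≫ φ.hom.app (op (EtCoh.top X)) = τ := by
    have h := ((constantSheafAdj X.smallEtaleTopology AddCommGrpCat.{u + 1} hterm).homEquiv M G).apply_symm_apply τ
    rw [Adjunction.homEquiv_unit] at h
    refine Eq.trans ?_ h
    simp [cstUnit, φ, constantSheafAdj, constantPresheafAdj]
  have hC : LC (fun M : AddCommGrpCat.{u + 1} => Finite M) C := fun x =>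
    ⟨EtCoh.top X, x, M, _, rfl, ‹_›, isCst_cstUnit M⟩
  rw [isOpen_iff_forall_mem_open]
  intro z hz
  obtain ⟨V, y, P, Q, η, θ, h, hy, -, -, hη, hθ, he⟩ :=
    exists_common φ hC hG (fun P (hP : Finite P) => fg_Ab) z
  have hkey : ∀ {Ω : Type u} [Field Ω] [IsSepClosed Ω] (ζ : Spec (CommRingCat.of Ω) ⟶ X) (v : Fib ζ V)
      (t : Fib ζ (EtCoh.top X)), IsIso (τ ≫ germ ζ G (EtCoh.top X) t) ↔ IsIso h := by
    intro Ω _ _ ζ v t
    haveI := isCst_cstUnit M Ω ζ t
    haveI := hη Ω ζ v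
    haveI := hθ Ω ζ v
    have e : (cstUnit X M ≫ germ ζ C (EtCoh.top X) t) ≫ (stk (A := AddCommGrpCat.{u + 1}) ζ).map φ =
        τ ≫ germ ζ G (EtCoh.top X) t := by
      rw [Category.assoc, germ_natural, ← Category.assoc, hφ]
    have e' : (η ≫ germ ζ C V v) ≫ (stk (A := AddCommGrpCat.{u + 1}) ζ).map φ = h ≫ θ ≫ germ ζ G V v := by
      rw [Category.assoc, germ_natural, ← Category.assoc, he, Category.assoc]
    rw [← e]
    constructor
    · intro _
      haveI : IsIso ((stk (A := AddCommGrpCat.{u + 1}) ζ).map φ) :=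
        IsIso.of_isIso_comp_left (cstUnit X M ≫ germ ζ C (EtCoh.top X) t) _
      haveI : IsIso (h ≫ θ ≫ germ ζ G V v) := by rw [← e']; infer_instance
      exact IsIso.of_isIso_comp_right h (θ ≫ germ ζ G V v)
    · intro hi
      haveI : IsIso ((η ≫ germ ζ C V v) ≫ (stk (A := AddCommGrpCat.{u + 1}) ζ).map φ) := by
        rw [e']; infer_instance
      haveI : IsIso ((stk (A := AddCommGrpCat.{u + 1}) ζ).map φ) :=
        IsIso.of_isIso_comp_left (η ≫ germ ζ C V v) _
      infer_instance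
  have hh : IsIso h := by
    obtain ⟨Ω, _, _, ζ, hζ⟩ := exists_geometric_pt z
    obtain ⟨v, -⟩ := exists_fib ζ V y (hy.trans hζ.symm)
    obtain ⟨t⟩ := exists_fib_of_range ζ (U := EtCoh.top X) ⟨ζ.base default, rfl⟩
    exact (hkey ζ v t).1 (hz Ω ζ t hζ)
  refine ⟨Set.range V.hom.base, fun a ha Ω _ _ ζ t hζ => ?_, isOpen_range_etale V, ⟨y, hy⟩⟩
  obtain ⟨b, rfl⟩ := ha
  obtain ⟨v, -⟩ := exists_fib ζ V b hζ.symm
  exact (hkey ζ v t).2 hh

/-- Local constancy descends along surjective flat morphisms locally of finite presentation. -/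
theorem lc_of_pull_flat_surjective (f : X ⟶ Y) [Surjective f] [Flat f] [LocallyOfFinitePresentation f]
    {F : EtCoh.Ab Y}
    (hF : LC (fun M : AddCommGrpCat.{u + 1} => Finite M) ((pullA f AddCommGrpCat.{u + 1}).obj F)) :
    LC (fun M : AddCommGrpCat.{u + 1} => Finite M) F := by
  intro y
  obtain ⟨Ω, _, _, ξ, rfl⟩ := exists_geometric_pt y
  haveI hfin : Finite ((stk (A := AddCommGrpCat.{u + 1}) ξ).obj F) := by
    obtain ⟨x, hx⟩ := f.surjective (ξ.base default)
    obtain ⟨Ω', _, _, ζ, rfl⟩ := exists_geometric_pt x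
    obtain ⟨V, b, N, η, hb, hN, hη⟩ := hF (ζ.base default)
    obtain ⟨v, -⟩ := exists_fib ζ V b hb
    haveI := hη Ω' ζ v
    haveI : Finite ((pullA f AddCommGrpCat.{u + 1} ⋙ stk (A := AddCommGrpCat.{u + 1}) ζ).obj F) :=
      Finite.of_equiv _ (asIso (η ≫ germ ζ _ V v)).addCommGroupIsoToAddEquiv.toEquiv
    obtain ⟨i⟩ := nonempty_stk_iso_of_eq (A := AddCommGrpCat.{u + 1}) (ξ := ξ) (ξ' := ζ ≫ f) hx
    exact Finite.of_equiv _
      (i.app F ≪≫ (stalkPull f ζ AddCommGrpCat.{u + 1}).app F).symm.addCommGroupIsoToAddEquiv.toEquiv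
  obtain ⟨u₀⟩ := exists_fib_of_range ξ (U := EtCoh.top Y) ⟨ξ.base default, rfl⟩
  obtain ⟨W, -, w, σ, -, hσ⟩ :=
    lifts_Ab (M := (stk (A := AddCommGrpCat.{u + 1}) ξ).obj F) F ξ (EtCoh.top Y) u₀ (𝟙 _)
  have hopen : IsOpen (isoLocus W σ) := by
    let p₁ : pullback (str W) f ⟶ W.left := pullback.fst (str W) f
    let p₂ : pullback (str W) f ⟶ X := pullback.snd (str W) f
    haveI : Flat p₁ := MorphismProperty.pullback_fst (P := @Flat) (str W) f inferInstance
    haveI : Surjective p₁ := MorphismProperty.pullback_fst (P := @Surjective) (str W) f inferInstance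
    let π := p₂ ≫ f
    let G := (pullA π AddCommGrpCat.{u + 1}).obj F
    have hG : LC (fun M : AddCommGrpCat.{u + 1} => Finite M) G :=
      (LC.pull (f := p₂) hF).of_stalk_iso ((pullCompA AddCommGrpCat.{u + 1} p₂ f).hom.app F)
    let δ : EtCoh.top (pullback (str W) f) ⟶ (EtCoh.bc π).obj W :=
      MorphismProperty.Over.homMk (pullback.lift p₁ (𝟙 _) (pullback.condition.trans (Category.id_comp _).symm))
        (pullback.lift_snd _ _ _)
    let τ : (stk (A := AddCommGrpCat.{u + 1}) ξ).obj F ⟶ G.obj.obj (op (EtCoh.top (pullback (str W) f))) :=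
      σ ≫ ((adjA π AddCommGrpCat.{u + 1}).unit.app F).hom.app (op W) ≫ G.obj.map δ.op
    have hτ := isOpen_isoLocus_lc hG _ τ
    have hpre : IsOpen (p₁.base ⁻¹' isoLocus W σ) := by
      convert hτ using 1
      ext z
      have hgerm : ∀ {Ω : Type u} [Field Ω] [IsSepClosed Ω] (ζ : Spec (CommRingCat.of Ω) ⟶ pullback (str W) f)
          (t : Fib ζ (EtCoh.top (pullback (str W) f))),
          τ ≫ germ ζ G _ t = (σ ≫ germ (ζ ≫ π) F W (Fib.mk (ζ ≫ p₁) (by
            show (ζ ≫ p₁) ≫ str W = ζ ≫ p₂ ≫ f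
            rw [Category.assoc, pullback.condition]))) ≫
            (stalkPull π ζ AddCommGrpCat.{u + 1}).hom.app F := by
        intro Ω _ _ ζ t
        rw [Category.assoc σ (germ (ζ ≫ π) F W _), germ_stalkPull]
        simp only [τ, Category.assoc]
        rw [germ_res]
        refine congrArg (fun q => σ ≫ _ ≫ germ ζ G _ q) (Fib.ext ?_)
        show t.hom ≫ pullback.lift p₁ (𝟙 _) _ = pullback.lift _ ζ _
        have ht : t.hom = ζ := (Category.comp_id _).symm.trans t.w
        apply pullback.hom_ext <;> simp [ht]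
      constructor
      · intro hz Ω _ _ ζ t hζ
        rw [hgerm ζ t]
        haveI := hz Ω (ζ ≫ π) (Fib.mk (ζ ≫ p₁) (by
          show (ζ ≫ p₁) ≫ str W = ζ ≫ p₂ ≫ f
          rw [Category.assoc, pullback.condition])) (congrArg p₁.base hζ)
        infer_instance
      · intro hz Ω' _ _ ξ' a ha
        obtain ⟨Ω'', _, _, ζ, hζ⟩ := exists_geometric_pt z
        obtain ⟨t⟩ := exists_fib_of_range ζ (U := EtCoh.top (pullback (str W) f)) ⟨ζ.base default, rfl⟩
        have h1 := hz Ω'' ζ t hζ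
        rw [hgerm ζ t] at h1
        haveI := h1
        have hp : (ζ ≫ p₁) ≫ str W = ζ ≫ π := by
          show (ζ ≫ p₁) ≫ str W = ζ ≫ p₂ ≫ f
          rw [Category.assoc, pullback.condition]
        refine isIso_germ_congr σ (Fib.mk (ξ := ζ ≫ π) (U := W) (ζ ≫ p₁) hp) a ?_
          (IsIso.of_isIso_comp_right _ ((stalkPull π ζ AddCommGrpCat.{u + 1}).hom.app F))
        exact ha.trans (congrArg p₁.base hζ).symm
    have himg : p₁.base '' (p₁.base ⁻¹' isoLocus W σ) = isoLocus W σ :=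
      Set.image_preimage_eq _ p₁.surjective
    rw [← himg]
    exact p₁.isOpenMap _ hpre
  have hw : w.pt ∈ isoLocus W σ := fun Ω' _ _ ξ' a ha => by
    refine isIso_germ_congr σ w a ha ?_
    rw [hσ]
    infer_instance
  obtain ⟨W', j, w', -, hj⟩ := exists_open_below ξ W w ⟨isoLocus W σ, hopen⟩ hw
  refine ⟨W', w'.pt, _, σ ≫ F.obj.map j.op,
    congrArg (fun t : Spec (CommRingCat.of Ω) ⟶ Y => t.base default) w'.w, hfin, fun Ω' _ _ ξ' a => ?_⟩
  rw [Category.assoc, germ_res]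
  have hmem : (a.map j).pt ∈ isoLocus W σ := hj ⟨a.pt, rfl⟩
  exact hmem Ω' ξ' (a.map j) rfl

theorem exists_open_flat_surjective {P Y : Scheme.{u}} [IsReduced Y] [IsNoetherian Y] (f : P ⟶ Y)
    [LocallyOfFiniteType f] [QuasiCompact f] {x : Y} (hx : ∀ y : Y, y ⤳ x → y = x) (hp : x ∈ Set.range f) :
    ∃ (O : Scheme.{u}) (j : O ⟶ Y) (P₀ : Scheme.{u}) (f' : P₀ ⟶ O) (l : P₀ ⟶ P), IsOpenImmersion j ∧
      x ∈ Set.range j ∧ Flat f' ∧ Surjective f' ∧ LocallyOfFinitePresentation f' ∧ l ≫ f = f' ≫ j := by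
  obtain ⟨U, hUd, -, hUf⟩ := SubtrBlowLib.exists_dense_open_flat (NoetherianSpace.isCompact _) f
  have hxU : x ∈ U := by
    obtain ⟨O, hO, hxO, hOs⟩ := exists_nhds_specializes hx
    obtain ⟨o, hoO, hoU⟩ := hUd.inter_open_nonempty O hO ⟨x, hxO⟩
    exact (hOs o hoO).mem_open U.isOpen hoU
  obtain ⟨p, hp⟩ := hp
  have hpU : p ∈ f ⁻¹ᵁ U := show f p ∈ U from hp ▸ hxU
  haveI := hUf
  let g := f ∣_ U
  let V : U.toScheme.Opens := ⟨Set.range g, g.isOpenMap.isOpen_range⟩
  refine ⟨V, V.ι ≫ U.ι, _, g ∣_ V, (g ⁻¹ᵁ V).ι ≫ (f ⁻¹ᵁ U).ι, inferInstance, ?_, ?_, ?_, ?_, ?_⟩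
  · refine ⟨⟨g ⟨p, hpU⟩, ⟨p, hpU⟩, rfl⟩, ?_⟩
    exact (congrArg (fun t => t.base (⟨p, hpU⟩ : (f ⁻¹ᵁ U).toScheme)) (morphismRestrict_ι f U)).trans hp
  · exact IsZariskiLocalAtTarget.restrict (P := @Flat) hUf V
  · refine ⟨fun a => ?_⟩
    obtain ⟨c, hc⟩ := a.2
    have hcV : c ∈ g ⁻¹ᵁ V := ⟨c, rfl⟩
    refine ⟨⟨c, hcV⟩, Subtype.ext ?_⟩
    exact (congrArg (fun t => t.base (⟨c, hcV⟩ : (g ⁻¹ᵁ V).toScheme)) (morphismRestrict_ι g V)).trans hc
  · infer_instance
  · simp [g]

variable {X' : Scheme.{u}}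

/-- Noetherian induction: a common stratification on the closed subsets of the base. -/
theorem exists_cover_family [IsNoetherian X] [IsNoetherian X'] (q : X' ⟶ X) [Surjective q] [LocallyOfFiniteType q]
    {ι : Type v} (F : ι → EtCoh.Ab X) {n : ℕ} (T : Fin n → Scheme.{u}) (g : ∀ i, T i ⟶ X')
    [∀ i, IsImmersion (g i)] (hcov : (⋃ i, Set.range (g i)) = Set.univ)
    (hF : ∀ k i, PullLC (A := AddCommGrpCat.{u + 1}) FinP (F k) (g i ≫ q)) (Z : Closeds X) :
    ∃ (m : ℕ) (T₀ : Fin m → Scheme.{u}) (g₀ : ∀ j, T₀ j ⟶ X), (∀ j, IsImmersion (g₀ j)) ∧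
      (Z : Set X) ⊆ ⋃ j, Set.range (g₀ j) ∧
      ∀ k j, PullLC (A := AddCommGrpCat.{u + 1}) FinP (F k) (g₀ j) := by
  induction Z using WellFoundedLT.induction with
  | ind Z ih =>
    by_cases hne : (Z : Set X).Nonempty
    · obtain ⟨Z', z, hz, hred, hr⟩ := exists_reduced_immersion (Z.isClosed.isLocallyClosed)
      haveI : IsLocallyNoetherian Z' := LocallyOfFiniteType.isLocallyNoetherian z
      haveI : NoetherianSpace Z' := z.isEmbedding.isInducing.noetherianSpace
      haveI : IsNoetherian Z' := {}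
      obtain ⟨z₀⟩ : Nonempty Z' := by
        obtain ⟨a, ha⟩ := hne
        rw [← hr] at ha
        obtain ⟨b, -⟩ := ha
        exact ⟨b⟩
      obtain ⟨x, -, hx⟩ := exists_maximal_generization z₀
      haveI : ∀ i, NoetherianSpace (T i) := fun i => (g i).isEmbedding.isInducing.noetherianSpace
      haveI : ∀ i, QuasiCompact (g i ≫ q) := fun i => quasiCompact_of_compactSpace _
      let f : ∀ i, pullback (g i ≫ q) z ⟶ Z' := fun i => pullback.snd (g i ≫ q) z
      haveI : ∀ i, LocallyOfFiniteType (f i) := fun i =>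
        MorphismProperty.pullback_snd (P := @LocallyOfFiniteType) (g i ≫ q) z inferInstance
      haveI : ∀ i, QuasiCompact (f i) := fun i =>
        MorphismProperty.pullback_snd (P := @QuasiCompact) (g i ≫ q) z inferInstance
      obtain ⟨i₀, hp⟩ : ∃ i, x ∈ Set.range (f i) := by
        obtain ⟨a, ha⟩ := q.surjective (z x)
        obtain ⟨i, b, hb⟩ := Set.mem_iUnion.1 (hcov.ge (Set.mem_univ a))
        obtain ⟨c, -, hc⟩ := Scheme.Pullback.exists_preimage_pullback (f := g i ≫ q) (g := z) b x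
          ((congrArg q hb).trans ha)
        exact ⟨i, c, hc⟩
      obtain ⟨O', j, P₀, f', l, hj, hxj, hfl, hsurj, hfp, hl⟩ := exists_open_flat_surjective (f i₀) hx hp
      haveI := hj
      haveI := hfl
      haveI := hsurj
      haveI := hfp
      have hlc : ∀ k, PullLC (A := AddCommGrpCat.{u + 1}) FinP (F k) (j ≫ z) := fun k =>
        lc_of_pull_flat_surjective f'
          ((hF k i₀).pull (l ≫ pullback.fst (g i₀ ≫ q) z) (by
            rw [Category.assoc, pullback.condition, ← Category.assoc, hl, Category.assoc]))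
      have hzc : Topology.IsClosedEmbedding z := ⟨z.isEmbedding, hr.symm ▸ Z.isClosed⟩
      let O : Z'.Opens := j.opensRange
      have hxO : x ∈ O := hxj
      let Z₁ : Closeds X := ⟨z '' (O : Set Z')ᶜ, hzc.isClosedMap _ O.isOpen.isClosed_compl⟩
      have hlt : Z₁ < Z := by
        refine lt_of_le_of_ne (fun a ha => ?_) fun h => ?_
        · obtain ⟨b, -, rfl⟩ := ha
          show z b ∈ (Z : Set X)
          rw [← hr]
          exact ⟨b, rfl⟩
        · have hzx : z x ∈ (Z₁ : Set X) := by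
            rw [h, ← hr]
            exact ⟨x, rfl⟩
          obtain ⟨b, hb, hbx⟩ := hzx
          exact hb (z.isEmbedding.injective hbx ▸ hxO)
      obtain ⟨m, T₀, g₀, hi, hc₀, hl⟩ := ih Z₁ hlt
      refine ⟨m + 1, Fin.cases O' T₀,
        fun i => Fin.cases (motive := fun i => (Fin.cases O' T₀ i : Scheme.{u}) ⟶ X) (j ≫ z) g₀ i,
        Fin.cases (inferInstanceAs (IsImmersion (j ≫ z))) hi, fun a ha => ?_,
        fun k => Fin.cases (hlc k) (hl k)⟩
      rw [← hr] at ha
      obtain ⟨b, rfl⟩ := ha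
      by_cases hb : b ∈ O
      · obtain ⟨c, hc⟩ := hb
        exact Set.mem_iUnion.2 ⟨0, c, congrArg z hc⟩
      · obtain ⟨i, hi'⟩ := Set.mem_iUnion.1 (hc₀ ⟨b, hb, rfl⟩)
        exact Set.mem_iUnion.2 ⟨i.succ, hi'⟩
    · exact ⟨0, Fin.elim0, fun i => i.elim0, fun i => i.elim0, fun a ha => absurd ⟨a, ha⟩ hne,
        fun _ i => i.elim0⟩

theorem exists_strata_family [IsNoetherian X] [IsNoetherian X'] (q : X' ⟶ X) [Surjective q]
    [LocallyOfFiniteType q] {ι : Type v} (F : ι → EtCoh.Ab X) {n : ℕ} (T : Fin n → Scheme.{u})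
    (g : ∀ i, T i ⟶ X') [∀ i, IsImmersion (g i)] (hcov : (⋃ i, Set.range (g i).base) = Set.univ)
    (hF : ∀ k i, EtCoh.IsFiniteLocallyConstant ((EtCoh.pull (g i)).obj ((EtCoh.pull q).obj (F k)))) :
    ∃ (m : ℕ) (T₀ : Fin m → Scheme.{u}) (g₀ : ∀ j, T₀ j ⟶ X),
      (∀ j, IsImmersion (g₀ j)) ∧
      Pairwise (fun j j' => Disjoint (Set.range (g₀ j).base) (Set.range (g₀ j').base)) ∧
      (⋃ j, Set.range (g₀ j).base) = Set.univ ∧
      ∀ k j, EtCoh.IsFiniteLocallyConstant ((EtCoh.pull (g₀ j)).obj (F k)) := by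
  have hF' : ∀ k i, PullLC (A := AddCommGrpCat.{u + 1}) FinP (F k) (g i ≫ q) := fun k i =>
    PullLC.of_pull ((isFLC_iff _).1 (hF k i))
  obtain ⟨m, T₀, g₀, hi, hc₀, hl⟩ := exists_cover_family q F T g hcov hF' ⊤
  haveI := hi
  obtain ⟨N, E, e, he, -, hd, hu, hk⟩ := exists_partition (X := X) isOpen_univ T₀ g₀ fun j =>
    isConstructible_of_isLocallyClosed
      ((Scheme.Hom.isLocallyClosed_range (g₀ j)).preimage continuous_subtype_val)
  exact ⟨N, E, e, he, hd, hu, fun k j => (isFLC_iff _).2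
    (pullLC_of_cover (g := g₀) hc₀ (hl k) (Set.subset_univ _) (hk j))⟩

end Groth.Agent.EtFamStrataLib
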